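import Groth.Agent.AbPrim.Geometric

/-!
Formal consequences for duals: classes from the base are invisible, additivity.
-/

set_option autoImplicit false
set_option backward.isDefEq.respectTransparency false
set_option backward.isDefEq.respectTransparency.types false
set_option linter.style.haveILetI false
set_option maxHeartbeats 1000000

universe u

open CategoryTheory MonoidalCategory CartesianMonoidalCategory MonObj GrpObj AlgebraicGeometry
open Groth.Agent.W7Cube (pull pull_pull pull_cls)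

noncomputable section

namespace Groth.Agent.AbPrim

attribute [local instance] W7Cube.law

section algEquiv

variable {Ω : Type u} [Field Ω]

theorem algEquiv_structureModule (P : Scheme.{u}) [P.Over (Spec (CommRingCat.of Ω))] :
    Pic13.IsAlgEquivZero Ω P (Coh.structureModule P) := by
  haveI : ConnectedSpace (Spec (CommRingCat.of Ω)) := inferInstanceAs (ConnectedSpace (PrimeSpectrum Ω))
  exact ⟨Spec (CommRingCat.of Ω), 𝟙 _, inferInstance, inferInstance, inferInstance, Coh.structureModule _,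
    PicLoc.isInvertible_structureModule _, 𝟙 _, 𝟙 _, Category.id_comp _, Category.id_comp _,
    ⟨PicLoc.pullbackStructureIso _⟩, ⟨PicLoc.pullbackStructureIso _⟩⟩

theorem algEquiv_pullback {P Q : Scheme.{u}} (iP : P ⟶ Spec (CommRingCat.of Ω)) (iQ : Q ⟶ Spec (CommRingCat.of Ω))
    (φ : Q ⟶ P) (hφ : φ ≫ iP = iQ) {L : P.Modules} (h : @Pic13.IsAlgEquivZero Ω _ P ⟨iP⟩ L) :
    @Pic13.IsAlgEquivZero Ω _ Q ⟨iQ⟩ ((Scheme.Modules.pullback φ).obj L) := by
  letI : P.Over (Spec (CommRingCat.of Ω)) := ⟨iP⟩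
  letI : Q.Over (Spec (CommRingCat.of Ω)) := ⟨iQ⟩
  obtain ⟨Z, q, hZ, hlft, hqc, M, hM, t, t₀, ht, ht₀, ⟨i⟩, ⟨i₀⟩⟩ := h
  let Φ : Pic13.prodK Ω Q q ⟶ Pic13.prodK Ω P q :=
    Limits.pullback.map _ _ _ _ φ (𝟙 Z) (𝟙 _) ((Category.comp_id _).trans hφ.symm) (by simp)
  have hs : ∀ (s : Spec (CommRingCat.of Ω) ⟶ Z) (hs : s ≫ q = 𝟙 _),
      Pic13.sliceAt Ω Q q s hs ≫ Φ = φ ≫ Pic13.sliceAt Ω P q s hs := fun s hs => by
    refine Limits.pullback.hom_ext ?_ ?_
    · simp [Φ, Pic13.sliceAt]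
      exact Category.id_comp φ
    · simp only [Φ, Pic13.sliceAt, Category.assoc, Limits.pullback.lift_snd, Limits.pullback.lift_snd_assoc,
        Category.comp_id]
      rw [← Category.assoc φ]
      exact congrArg (· ≫ s) hφ.symm
  let e : ∀ (s : Spec (CommRingCat.of Ω) ⟶ Z) (hs' : s ≫ q = 𝟙 _),
      Pic13.fibreMod Ω Q q s hs' ((Scheme.Modules.pullback Φ).obj M) ≅
        (Scheme.Modules.pullback φ).obj (Pic13.fibreMod Ω P q s hs' M) := fun s hs' =>
    (Scheme.Modules.pullbackComp _ Φ).app M ≪≫ (Scheme.Modules.pullbackCongr (hs s hs')).app M ≪≫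
      ((Scheme.Modules.pullbackComp φ _).app M).symm
  exact ⟨Z, q, hZ, hlft, hqc, _, PicLoc.isInvertible_pullback Φ hM, t, t₀, ht, ht₀,
    ⟨e t ht ≪≫ (Scheme.Modules.pullback φ).mapIso i⟩,
    ⟨e t₀ ht₀ ≪≫ (Scheme.Modules.pullback φ).mapIso i₀ ≪≫ PicLoc.pullbackStructureIso φ⟩⟩

theorem algEquiv_iso {P : Scheme.{u}} [P.Over (Spec (CommRingCat.of Ω))] {L L' : P.Modules} (e : L ≅ L')
    (h : Pic13.IsAlgEquivZero Ω P L) : Pic13.IsAlgEquivZero Ω P L' := by
  obtain ⟨Z, q, hZ, hlft, hqc, M, hM, t, t₀, ht, ht₀, ⟨i⟩, h0⟩ := h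
  exact ⟨Z, q, hZ, hlft, hqc, M, hM, t, t₀, ht, ht₀, ⟨i ≪≫ e⟩, h0⟩

end algEquiv

variable {S : Scheme.{u}} {X Y : Scheme.{u}}

section picZero

variable {A B T : Over S}

lemma bcMap_eq (f : A ⟶ B) (T : Over S) : AbDual.bcMap f T = (lift (fst A T ≫ f) (snd A T)).left := by
  refine Limits.pullback.hom_ext ?_ ?_ <;> simp [AbDual.bcMap]

theorem picZero_bcMap (f : A ⟶ B) {c : PicLoc.PicSet (B ⊗ T).left} (h : AbDual.IsPicZeroCl B.hom T c.1) :
    AbDual.IsPicZeroCl A.hom T (pull (AbDual.bcMap f T) c).1 := by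
  obtain ⟨L, hc, hL, hLt⟩ := h
  obtain rfl : c = PicGrp.cls L hL := Subtype.ext hc.symm
  refine ⟨(Scheme.Modules.pullback (AbDual.bcMap f T)).obj L, rfl, PicLoc.isInvertible_pullback _ hL,
    fun t Ω _ _ σ hσ => ?_⟩
  let φ : Limits.pullback (PicF.XTproj A.hom T) σ ⟶ Limits.pullback (PicF.XTproj B.hom T) σ :=
    Limits.pullback.map _ _ _ _ (AbDual.bcMap f T) (𝟙 _) (𝟙 _)
      (by simp [AbDual.bcMap, PicF.XTproj]) (by simp)
  letI : (Limits.pullback (PicF.XTproj A.hom T) σ).Over (Spec (CommRingCat.of Ω)) := ⟨Limits.pullback.snd _ _⟩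
  have h := algEquiv_pullback (Limits.pullback.snd (PicF.XTproj B.hom T) σ) (Limits.pullback.snd (PicF.XTproj A.hom T) σ)
    φ ((Limits.pullback.lift_snd _ _ _).trans (Category.comp_id _)) (hLt t Ω σ hσ)
  refine algEquiv_iso ?_ h
  exact (Scheme.Modules.pullbackComp φ _).app L ≪≫ (Scheme.Modules.pullbackCongr (Limits.pullback.lift_fst _ _ _)).app L ≪≫
    ((Scheme.Modules.pullbackComp _ (AbDual.bcMap f T)).app L).symm

theorem picZero_one : AbDual.IsPicZeroCl A.hom T (1 : PicLoc.PicSet (A ⊗ T).left).1 := by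
  refine ⟨Coh.structureModule _, PicGrp.one_val.symm, PicLoc.isInvertible_structureModule _, fun t Ω _ _ σ _ => ?_⟩
  letI : (Limits.pullback (PicF.XTproj A.hom T) σ).Over (Spec (CommRingCat.of Ω)) := ⟨Limits.pullback.snd _ _⟩
  exact algEquiv_iso (PicLoc.pullbackStructureIso _).symm (algEquiv_structureModule _)

theorem picZero_mul_base {c : PicLoc.PicSet (A ⊗ T).left} (h : AbDual.IsPicZeroCl A.hom T c.1)
    (m : PicLoc.PicSet T.left) : AbDual.IsPicZeroCl A.hom T (c * pull (snd A T).left m).1 := by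
  obtain ⟨L, hc, hL, hLt⟩ := h
  obtain rfl : c = PicGrp.cls L hL := Subtype.ext hc.symm
  obtain ⟨N, hN, rfl⟩ := PicGrp.exists_eq_cls m
  refine ⟨CohB1.tensorMod L ((Scheme.Modules.pullback (PicF.XTproj A.hom T)).obj N), ?_,
    TMul.isInvertible_tensorMod hL (PicLoc.isInvertible_pullback _ hN), fun t Ω _ _ σ hσ => ?_⟩
  · rw [pull_cls, PicGrp.cls_mul_cls_val]
    rfl
  letI : (Limits.pullback (PicF.XTproj A.hom T) σ).Over (Spec (CommRingCat.of Ω)) := ⟨Limits.pullback.snd _ _⟩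
  haveI : Subsingleton (Spec (CommRingCat.of Ω)) := inferInstanceAs (Subsingleton (PrimeSpectrum Ω))
  haveI : Nonempty (Spec (CommRingCat.of Ω)) := inferInstanceAs (Nonempty (PrimeSpectrum Ω))
  obtain ⟨u⟩ := W7See.nonempty_iso_unit_of_subsingleton (PicLoc.isInvertible_pullback σ hN)
  let P := Scheme.Modules.pullback (Limits.pullback.fst (PicF.XTproj A.hom T) σ)
  obtain ⟨a⟩ := TMul.nonempty_pullTensorIso (Limits.pullback.fst (PicF.XTproj A.hom T) σ) L
    ((Scheme.Modules.pullback (PicF.XTproj A.hom T)).obj N)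
  let w : P.obj ((Scheme.Modules.pullback (PicF.XTproj A.hom T)).obj N) ≅ Coh.structureModule _ :=
    (Scheme.Modules.pullbackComp _ _).app N ≪≫ (Scheme.Modules.pullbackCongr Limits.pullback.condition).app N ≪≫
      ((Scheme.Modules.pullbackComp _ σ).app N).symm ≪≫ (Scheme.Modules.pullback _).mapIso u ≪≫
      PicLoc.pullbackStructureIso _
  refine algEquiv_iso ?_ (hLt t Ω σ hσ)
  exact (SecTwist.unitorR _).symm ≪≫ PicGrp.tensorModIso (Iso.refl _) w.symm ≪≫ a

end picZero

section phi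

variable {A At T : Over S} [GrpObj At] {φ : ∀ T : Over S, PicF.Cl (PicF.XT A.hom T) → (T ⟶ At)}
  (hA : AbDual.IsDualAV Scheme.fppfPrecoverage A At φ)

include hA in
/-- classes from the base are invisible -/
theorem phi_mul_base {c : PicLoc.PicSet (A ⊗ T).left} (h : AbDual.IsPicZeroCl A.hom T c.1)
    (m : PicLoc.PicSet T.left) : φ T (c * pull (snd A T).left m).1 = φ T c.1 := by
  have h' := picZero_mul_base h m
  obtain ⟨N, hN, rfl⟩ := PicGrp.exists_eq_cls m
  choose U hU hUN using id hN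
  refine Over.OverMorphism.ext ((T.left.openCoverOfIsOpenCover U (eq_top_iff.2 fun x _ =>
    TopologicalSpace.Opens.mem_iSup.2 ⟨x, hU x⟩)).hom_ext _ _ fun x => ?_)
  let g := AbDual.ovrHom T (U x).ι
  have hw : PicF.XTmap A.hom g ≫ PicF.XTproj A.hom T = PicF.XTproj A.hom (AbDual.ovr T (U x).ι) ≫ (U x).ι :=
    Limits.pullback.lift_snd _ _ _
  have h1 : pull (U x).ι (PicGrp.cls N hN) = 1 := by
    rw [pull_cls, PicGrp.cls_eq_one_iff]
    exact ⟨((Scheme.Modules.restrictFunctorIsoPullback (U x).ι).app N).symm ≪≫ (hUN x).some⟩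
  have e : pull (PicF.XTmap A.hom g) (c * pull (snd A T).left (PicGrp.cls N hN)) =
      pull (PicF.XTmap A.hom g) c := by
    refine (map_mul _ _ _).trans ((congrArg (_ * ·) ?_).trans (_root_.mul_one _))
    refine ((pull_pull (PicF.XTmap A.hom g) (snd A T).left (PicGrp.cls N hN)).trans
      ((congrArg (fun m => pull m (PicGrp.cls N hN)) hw).trans ?_))
    exact (pull_pull _ _ _).symm.trans ((congrArg (pull _) h1).trans (map_one _))
  have n1 := hA.relPic.natural T _ g _ h'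
  have n2 := hA.relPic.natural T _ g _ h
  have e' : g ≫ φ T (c * pull (snd A T).left (PicGrp.cls N hN)).1 = g ≫ φ T c.1 :=
    n1.symm.trans ((congrArg (φ _) (congrArg Subtype.val e)).trans n2)
  exact congrArg CommaMorphism.left e'

include hA in
theorem phi_mul {c d : PicLoc.PicSet (A ⊗ T).left} (hc : AbDual.IsPicZeroCl A.hom T c.1)
    (hd : AbDual.IsPicZeroCl A.hom T d.1) : φ T (c * d).1 = φ T c.1 * φ T d.1 := by
  obtain ⟨L, hL, rfl⟩ := PicGrp.exists_eq_cls c
  obtain ⟨M, hM, rfl⟩ := PicGrp.exists_eq_cls d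
  rw [PicGrp.cls_mul_cls_val]
  exact hA.mul T L M hc hd

include hA in
theorem phi_one : φ T (1 : PicLoc.PicSet (A ⊗ T).left).1 = 1 := by
  have h := phi_mul hA (T := T) picZero_one picZero_one
  rw [_root_.mul_one] at h
  exact (mul_eq_left.1 h.symm)

end phi

end Groth.Agent.AbPrim

namespace Groth.Agent.AbPrim

open CategoryTheory MonoidalCategory CartesianMonoidalCategory MonObj GrpObj AlgebraicGeometry
open Groth.Agent.W7Cube (pull pull_pull pull_cls)

attribute [local instance] W7Cube.law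

variable {S : Scheme.{u}} {A B T : Over S}

/-- the base change of a morphism, typed in `Over` -/
abbrev bc (f : A ⟶ B) (T : Over S) : (A ⊗ T).left ⟶ (B ⊗ T).left := AbDual.bcMap f T

lemma pull_bcMap (c : PicLoc.PicSet (B ⊗ T).left) (f : A ⟶ B) :
    pull (bc f T) c = val c (fst A T ≫ f) (snd A T) :=
  congrArg (fun m => pull m c) (bcMap_eq f T)

lemma pull_bcMap_mul [GrpObj B] [IsProper B.hom] [Flat B.hom] [LocallyOfFinitePresentation B.hom]
    [GeometricallyReduced B.hom] [GeometricallyConnected B.hom]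
    {c : PicLoc.PicSet (B ⊗ T).left} (h : AbDual.IsPicZeroCl B.hom T c.1) (f g : A ⟶ B) :
    pull (bc (f * g) T) c * pull (snd A T).left (val c 1 (𝟙 T)) =
      pull (bc f T) c * pull (bc g T) c := by
  simp only [pull_bcMap, pull_val, MonObj.comp_one, Category.comp_id, MonObj.comp_mul]
  exact val_mul h _ _ _

lemma val_one_eq [GrpObj A] (c : PicLoc.PicSet (A ⊗ T).left) :
    val c 1 (𝟙 T) = pull (PicF.secT A.hom η[A].left (Over.w η[A]) T) c := by
  refine congrArg (fun m => pull m c) (Limits.pullback.hom_ext ?_ ?_) <;>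
    simp [PicF.secT, Hom.one_def, Over.lift_left]

end Groth.Agent.AbPrim
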