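import Groth.Agent.AbPrim.Basic
import Mathlib.FieldTheory.IsAlgClosed.AlgebraicClosure

/-!
Classes algebraically equivalent to zero on the geometric fibres of an abelian scheme are primitive.
-/

set_option autoImplicit false
set_option backward.isDefEq.respectTransparency false
set_option backward.isDefEq.respectTransparency.types false
set_option linter.style.haveILetI false
set_option maxHeartbeats 1000000

universe u

open CategoryTheory MonoidalCategory CartesianMonoidalCategory MonObj GrpObj AlgebraicGeometry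
open Groth.Agent.W7Cube (pull pull_pull pull_cls)

noncomputable section

namespace Groth.Agent.AbPrim

attribute [local instance] W7Cube.law

variable {S : Scheme.{u}} {X : Over S} [GrpObj X] [IsProper X.hom] [Flat X.hom]
  [LocallyOfFinitePresentation X.hom] [GeometricallyReduced X.hom] [GeometricallyConnected X.hom] {T : Over S}

set_option maxHeartbeats 4000000 in
/-- over an algebraically closed geometric point -/
theorem univDefect_geometric {L : (PicF.XT X.hom T).Modules} (hL : PicF.IsInvertible L) (z : T.left)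
    (hz : AbDual.IsAlgTrivialAt (PicF.XTproj X.hom T) L z) {Ω : Type u} [Field Ω] [IsAlgClosed Ω]
    (σ : Spec (CommRingCat.of Ω) ⟶ T.left) (hσ : Set.range σ.base = {z}) :
    pull ((X ⊗ X) ◁ AbDual.ovrHom T σ).left (univDefect (PicGrp.cls L hL)) = 1 := by
  obtain ⟨Z, q, hZ, -, -, M, hM, t, t₀, ht, ht₀, ⟨i⟩, ⟨i₀⟩⟩ := hz Ω σ hσ
  let P := Limits.pullback (PicF.XTproj X.hom T) σ
  letI : P.Over (Spec (CommRingCat.of Ω)) := ⟨Limits.pullback.snd _ _⟩
  let T' := AbDual.ovr T σ
  let g : T' ⟶ T := AbDual.ovrHom T σ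
  let Z' : Over S := Over.mk (q ≫ σ ≫ T.hom)
  let h' : Z' ⟶ T' := Over.homMk q rfl
  let a : (X ⊗ Z').left ⟶ P := Limits.pullback.lift (X ◁ (h' ≫ g)).left (Limits.pullback.snd X.hom Z'.hom ≫ q)
    (by
      change (X ◁ (h' ≫ g)).left ≫ Limits.pullback.snd X.hom T.hom = _
      simp [h', g])
  let e : (X ⊗ Z').left ⟶ Pic13.prodK Ω P q := Limits.pullback.lift a (Limits.pullback.snd X.hom Z'.hom)
    (Limits.pullback.lift_snd _ _ _)
  let e' : (X ⊗ T').left ⟶ P := Limits.pullback.lift (X ◁ g).left (Limits.pullback.snd X.hom T'.hom)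
    (by
      change (X ◁ g).left ≫ Limits.pullback.snd X.hom T.hom = _
      simp [g])
  let cZ : PicLoc.PicSet (X ⊗ Z').left := pull e (PicGrp.cls M hM)
  have hτ : ∀ (s : Spec (CommRingCat.of Ω) ⟶ Z) (hs : s ≫ q = 𝟙 _)
      (τ : T' ⟶ Z') (_ : τ.left = s) (N : P.Modules) (hN : PicF.IsInvertible N),
      (Pic13.fibreMod Ω P q s hs M ≅ N) → pull (X ◁ τ).left cZ = pull e' (PicGrp.cls N hN) := by
    intro s hs τ hτs N hN j
    have hτh : τ ≫ h' = 𝟙 T' := Over.OverMorphism.ext (by simp [h', hτs, hs, T'])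
    have hw : (X ◁ τ).left ≫ e = e' ≫ Pic13.sliceAt Ω P q s hs := by
      refine Limits.pullback.hom_ext (Limits.pullback.hom_ext ?_ ?_) ?_
      · simp only [e, a, e', Pic13.sliceAt, Category.assoc, Limits.pullback.lift_fst, Category.comp_id]
        rw [← Over.comp_left, ← MonoidalCategory.whiskerLeft_comp, ← Category.assoc τ, hτh, Category.id_comp]
      · simp [e, a, e', Pic13.sliceAt, hτs, hs]
        exact Category.comp_id _
      · simp [e, e', Pic13.sliceAt, hτs]
        exact (Limits.pullback.lift_snd_assoc _ _ _ _).symm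
    refine (pull_pull _ e _).trans ?_
    rw [hw, ← pull_pull, pull_cls]
    exact congrArg (pull e') ((PicGrp.cls_eq_cls_iff _ hN).2 ⟨j⟩)
  let τ : T' ⟶ Z' := Over.homMk t (by
    change t ≫ q ≫ σ ≫ T.hom = σ ≫ T.hom
    rw [reassoc_of% ht])
  let τ₀ : T' ⟶ Z' := Over.homMk t₀ (by
    change t₀ ≫ q ≫ σ ≫ T.hom = σ ≫ T.hom
    rw [reassoc_of% ht₀])
  have h1 : pull (X ◁ τ).left cZ = pull (X ◁ g).left (PicGrp.cls L hL) := by
    rw [hτ t ht τ rfl _ (PicLoc.isInvertible_pullback _ hL) i, ← pull_cls, pull_pull]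
    exact congrArg (fun m => pull m (PicGrp.cls L hL)) (Limits.pullback.lift_fst _ _ _)
  have h0 : pull (X ◁ τ₀).left cZ = 1 := by
    rw [hτ t₀ ht₀ τ₀ rfl _ (PicLoc.isInvertible_structureModule P) i₀, PicGrp.cls_structureModule_eq_one, map_one]
  haveI : ConnectedSpace Z'.left := hZ
  let pt : Spec (CommRingCat.of Ω) := IsLocalRing.closedPoint Ω
  let f := Limits.pullback.snd (X ⊗ X).hom Z'.hom
  let z₀ : Z'.left := t₀ pt
  let w : f.fiber z₀ ⟶ ((X ⊗ X) ⊗ T').left :=
    Limits.pullback.lift (f.fiberι z₀ ≫ Limits.pullback.fst (X ⊗ X).hom Z'.hom) (f.fiberι z₀ ≫ f ≫ q)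
      (by rw [Category.assoc, Limits.pullback.condition]; simp [Z', f, T'])
  have hw : w ≫ ((X ⊗ X) ◁ τ₀).left = f.fiberι z₀ := by
    refine Limits.pullback.hom_ext ?_ ?_
    · simp only [Category.assoc, Over.whiskerLeft_left_fst]
      exact Limits.pullback.lift_fst _ _ _
    · simp only [Category.assoc, Over.whiskerLeft_left_snd]
      refine (Limits.pullback.lift_snd_assoc _ _ _ _).trans ?_
      change (f.fiberι z₀ ≫ f ≫ q) ≫ t₀ = f.fiberι z₀ ≫ f
      rw [Category.assoc, Category.assoc, ← Category.assoc (f.fiberι z₀) f, f.fiber_fac z₀, Category.assoc]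
      exact congrArg (f.fiberToSpecResidueField z₀ ≫ ·) (W7Cube.fromSpecResidueField_section t₀ q ht₀ pt)
  have hc : univDefect cZ = 1 := by
    refine univDefect_eq_one_of_connected cZ z₀ ?_
    change pull (f.fiberι z₀) (univDefect cZ) = 1
    rw [← hw, ← pull_pull]
    refine (congrArg (pull w) (pull_univDefect_whiskerLeft (T' := T') cZ τ₀)).trans ?_
    rw [h0, univDefect_one]
    exact map_one _
  rw [pull_univDefect_whiskerLeft, ← h1, ← pull_univDefect_whiskerLeft, hc, map_one]

/-- **Primitivity.** -/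
theorem univDefect_eq_one {c : PicLoc.PicSet (X ⊗ T).left} (h : AbDual.IsPicZeroCl X.hom T c.1) :
    univDefect c = 1 := by
  obtain ⟨L, hc, hL, hLz⟩ := h
  obtain rfl : c = PicGrp.cls L hL := Subtype.ext hc.symm
  refine univDefect_eq_one_of_fibres _ fun z => ?_
  let σ : Spec (CommRingCat.of (AlgebraicClosure (T.left.residueField z))) ⟶ T.left :=
    Spec.map (CommRingCat.ofHom (algebraMap (T.left.residueField z) (AlgebraicClosure (T.left.residueField z)))) ≫ T.left.fromSpecResidueField z
  have hval : ∀ p, σ p = z := fun p =>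
    (Scheme.Hom.comp_apply _ _ p).trans (Scheme.fromSpecResidueField_apply z _)
  have hσ : Set.range σ.base = {z} := by
    refine Set.Subset.antisymm ?_ ?_
    · rintro _ ⟨p, rfl⟩
      exact hval p
    · rintro _ rfl
      exact ⟨IsLocalRing.closedPoint _, hval _⟩
  have hg := univDefect_geometric hL z (hLz z) σ hσ
  obtain ⟨M, hM, e⟩ := PicGrp.exists_eq_cls (univDefect (PicGrp.cls L hL))
  rw [e] at hg ⊢
  haveI : GeometricallyIntegral X.hom := W7Cube.geometricallyIntegral_grp
  let p := Limits.pullback.snd (X ⊗ X).hom T.hom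
  haveI : IsProper (X ⊗ X).hom := inferInstanceAs (IsProper (Limits.pullback.fst X.hom X.hom ≫ X.hom))
  haveI : GeometricallyIntegral (X ⊗ X).hom :=
    W7Cube.geometricallyIntegral_prod (IsPullback.of_hasPullback X.hom X.hom) (X ⊗ X).hom rfl
  haveI : IsProper p := inferInstance
  haveI : GeometricallyIntegral p := inferInstance
  let e'' : Limits.pullback p σ ⟶ ((X ⊗ X) ⊗ AbDual.ovr T σ).left :=
    Limits.pullback.lift (Limits.pullback.fst p σ ≫ Limits.pullback.fst (X ⊗ X).hom T.hom) (Limits.pullback.snd p σ)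
      (by
        rw [Category.assoc, Limits.pullback.condition]
        exact (Category.assoc _ _ _).symm.trans
          ((congrArg (· ≫ T.hom) Limits.pullback.condition).trans (Category.assoc _ _ _)))
  have he : e'' ≫ ((X ⊗ X) ◁ AbDual.ovrHom T σ).left = Limits.pullback.fst p σ := by
    refine Limits.pullback.hom_ext ?_ ?_
    · simp only [Category.assoc, Over.whiskerLeft_left_fst]
      exact Limits.pullback.lift_fst _ _ _
    · simp only [Category.assoc, Over.whiskerLeft_left_snd]
      refine (Limits.pullback.lift_snd_assoc _ _ _ _).trans ?_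
      exact Limits.pullback.condition.symm
  have h1 : pull (Limits.pullback.fst p σ) (PicGrp.cls M hM) = 1 := by
    rw [← he, ← pull_pull]
    exact (congrArg (pull e'') hg).trans (map_one _)
  rw [pull_cls, PicGrp.cls_eq_one_iff] at h1
  obtain ⟨j⟩ := PicFam.fiber_trivial_descend p σ hM (IsLocalRing.closedPoint _)
    ⟨(Scheme.Modules.pullback _).mapIso h1.some ≪≫ PicLoc.pullbackStructureIso _⟩
  rw [hval] at j
  rw [pull_cls, PicGrp.cls_eq_one_iff]
  exact ⟨j⟩

/-- **Primitivity**, at points. -/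
theorem val_mul {c : PicLoc.PicSet (X ⊗ T).left} (h : AbDual.IsPicZeroCl X.hom T c.1) {V : Over S}
    (f g : V ⟶ X) (t : V ⟶ T) : val c (f * g) t * val c 1 t = val c f t * val c g t :=
  mul_inv_eq_one.1 (defect_eq_one_of_univ (univDefect_eq_one h) f g t)

end Groth.Agent.AbPrim
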