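import Groth.Agent.W7Cube.GroupBase
import Groth.Agent.PicFam.Separated
import Groth.Prelude.Def_AbDual

/-!
Families algebraically equivalent to zero on the geometric fibres of an abelian scheme are primitive
(theorem of the cube).
-/

set_option autoImplicit false
set_option backward.isDefEq.respectTransparency false
set_option backward.isDefEq.respectTransparency.types false
set_option linter.style.haveILetI false
set_option maxHeartbeats 1000000

universe u

open CategoryTheory MonoidalCategory CartesianMonoidalCategory MonObj GrpObj AlgebraicGeometry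
open Groth.Agent.W7Cube (pull pull_pull pull_cls)
open TMul (IsGen)

noncomputable section

namespace Groth.Agent.AbPrim

attribute [local instance] W7Cube.law

variable {S : Scheme.{u}} {X : Over S} [GrpObj X] {T T' V V' : Over S}

/-- the pullback of a family along a pair of points -/
def val (c : PicLoc.PicSet (X ⊗ T).left) (f : V ⟶ X) (t : V ⟶ T) : PicLoc.PicSet V.left :=
  pull (lift f t).left c

omit [GrpObj X] in
lemma pull_val (c : PicLoc.PicSet (X ⊗ T).left) (s : V' ⟶ V) (f : V ⟶ X) (t : V ⟶ T) :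
    pull s.left (val c f t) = val c (s ≫ f) (s ≫ t) := by
  refine (pull_pull s.left (lift f t).left c).trans ?_
  rw [← Over.comp_left, comp_lift]
  rfl

omit [GrpObj X] in
lemma val_whiskerLeft (c : PicLoc.PicSet (X ⊗ T).left) (h : T' ⟶ T) (f : V ⟶ X) (t : V ⟶ T') :
    val (pull (X ◁ h).left c) f t = val c f (t ≫ h) := by
  refine (pull_pull (lift f t).left (X ◁ h).left c).trans ?_
  rw [← Over.comp_left, lift_whiskerLeft]
  rfl

/-- the failure of additivity -/
def defect (c : PicLoc.PicSet (X ⊗ T).left) (f g : V ⟶ X) (t : V ⟶ T) : PicLoc.PicSet V.left :=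
  val c (f * g) t * val c 1 t * (val c f t * val c g t)⁻¹

lemma pull_defect (c : PicLoc.PicSet (X ⊗ T).left) (s : V' ⟶ V) (f g : V ⟶ X) (t : V ⟶ T) :
    pull s.left (defect c f g t) = defect c (s ≫ f) (s ≫ g) (s ≫ t) := by
  simp only [defect, map_mul, map_inv, pull_val, MonObj.comp_mul, MonObj.comp_one]

lemma defect_one (c : PicLoc.PicSet (X ⊗ T).left) (g : V ⟶ X) (t : V ⟶ T) :
    defect c 1 g t = 1 ∧ defect c g 1 t = 1 := by
  refine ⟨?_, ?_⟩ <;> simp only [defect, _root_.one_mul, _root_.mul_one] <;> rw [mul_inv_eq_one]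
  exact _root_.mul_comm _ _

lemma defect_whiskerLeft (c : PicLoc.PicSet (X ⊗ T).left) (h : T' ⟶ T) (f g : V ⟶ X) (t : V ⟶ T') :
    defect (pull (X ◁ h).left c) f g t = defect c f g (t ≫ h) := by
  simp only [defect, val_whiskerLeft]

/-- the universal defect -/
def univDefect (c : PicLoc.PicSet (X ⊗ T).left) : PicLoc.PicSet ((X ⊗ X) ⊗ T).left :=
  defect c (fst (X ⊗ X) T ≫ fst X X) (fst (X ⊗ X) T ≫ snd X X) (snd (X ⊗ X) T)

lemma pull_univDefect (c : PicLoc.PicSet (X ⊗ T).left) (s : V ⟶ (X ⊗ X) ⊗ T) :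
    pull s.left (univDefect c) = defect c (s ≫ fst _ _ ≫ fst _ _) (s ≫ fst _ _ ≫ snd _ _) (s ≫ snd _ _) :=
  pull_defect c s _ _ _

lemma pull_univDefect_whiskerLeft (c : PicLoc.PicSet (X ⊗ T).left) (h : T' ⟶ T) :
    pull ((X ⊗ X) ◁ h).left (univDefect c) = univDefect (pull (X ◁ h).left c) := by
  rw [pull_univDefect, univDefect, defect_whiskerLeft]
  simp

lemma defect_eq_one_of_univ {c : PicLoc.PicSet (X ⊗ T).left} (h : univDefect c = 1) (f g : V ⟶ X) (t : V ⟶ T) :
    defect c f g t = 1 := by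
  have e := congrArg (pull (lift (lift f g) t).left) h
  rw [pull_univDefect, map_one] at e
  simpa using e

lemma univDefect_one : univDefect (1 : PicLoc.PicSet (X ⊗ T).left) = 1 := by
  simp only [univDefect, defect, val, map_one, _root_.mul_one, inv_one]

section cube

variable [IsProper X.hom] [Flat X.hom] [LocallyOfFinitePresentation X.hom] [GeometricallyReduced X.hom]
  [GeometricallyConnected X.hom]

set_option maxHeartbeats 4000000 in
/-- the cube: trivial on a fibre, hence trivial over a clopen part of the parameters -/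
theorem exists_clopen (c : PicLoc.PicSet (X ⊗ T).left) (z : T.left)
    (hz : pull ((Limits.pullback.snd (X ⊗ X).hom T.hom).fiberι z) (univDefect c) = 1) :
    ∃ W : T.left.Opens, IsClosed (W : Set T.left) ∧ z ∈ W ∧
      pull ((Limits.pullback.snd (X ⊗ X).hom T.hom) ⁻¹ᵁ W).ι (univDefect c) = 1 := by
  haveI : GeometricallyIntegral X.hom := W7Cube.geometricallyIntegral_grp
  obtain ⟨M, hM, e⟩ := PicGrp.exists_eq_cls (univDefect c)
  rw [e] at hz ⊢
  have key : ∀ (s : X ⊗ T ⟶ (X ⊗ X) ⊗ T),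
      defect c (s ≫ fst _ _ ≫ fst _ _) (s ≫ fst _ _ ≫ snd _ _) (s ≫ snd _ _) = 1 →
        Nonempty ((Scheme.Modules.pullback s.left).obj M ≅ Coh.structureModule (X ⊗ T).left) := by
    intro s h
    rw [← pull_univDefect, e, pull_cls, PicGrp.cls_eq_one_iff] at h
    exact h
  let eta : S ⟶ X.left := (η[X]).left
  have heta : eta ≫ X.hom = 𝟙 S := Over.w η[X]
  let s₁ : X ⊗ T ⟶ (X ⊗ X) ⊗ T := lift (lift (toUnit (X ⊗ T) ≫ η[X]) (fst X T)) (snd X T)
  let s₂ : X ⊗ T ⟶ (X ⊗ X) ⊗ T := lift (lift (fst X T) (toUnit (X ⊗ T) ≫ η[X])) (snd X T)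
  obtain ⟨j₁⟩ := key s₁ (by
    simp only [s₁, lift_fst_assoc, lift_fst, lift_snd]; rw [← Hom.one_def]; exact (defect_one c _ _).1)
  obtain ⟨j₂⟩ := key s₂ (by
    simp only [s₂, lift_fst_assoc, lift_fst, lift_snd]; rw [← Hom.one_def]; exact (defect_one c _ _).2)
  let l₁ : X.left ⟶ Limits.pullback X.hom X.hom := Limits.pullback.lift (X.hom ≫ eta) (𝟙 _)
    (by rw [Category.assoc, heta, Category.comp_id, Category.id_comp])
  let l₂ : X.left ⟶ Limits.pullback X.hom X.hom := Limits.pullback.lift (𝟙 _) (X.hom ≫ eta)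
    (by rw [Category.assoc, heta, Category.comp_id, Category.id_comp])
  have hc₁ : l₁ ≫ (Limits.pullback.fst X.hom X.hom ≫ X.hom) = X.hom := by
    rw [Limits.pullback.lift_fst_assoc, Category.assoc, heta, Category.comp_id]
  have hc₂ : l₂ ≫ (Limits.pullback.fst X.hom X.hom ≫ X.hom) = X.hom := by
    rw [Limits.pullback.lift_fst_assoc, Category.id_comp]
  let e₁ : Limits.pullback (l₁ ≫ (Limits.pullback.fst X.hom X.hom ≫ X.hom)) T.hom ⟶ Limits.pullback X.hom T.hom :=
    Limits.pullback.lift (Limits.pullback.fst _ _) (Limits.pullback.snd _ _)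
      ((congrArg (_ ≫ ·) hc₁.symm).trans Limits.pullback.condition)
  let e₂ : Limits.pullback (l₂ ≫ (Limits.pullback.fst X.hom X.hom ≫ X.hom)) T.hom ⟶ Limits.pullback X.hom T.hom :=
    Limits.pullback.lift (Limits.pullback.fst _ _) (Limits.pullback.snd _ _)
      ((congrArg (_ ≫ ·) hc₂.symm).trans Limits.pullback.condition)
  have hk₁ : Limits.pullback.snd (l₁ ≫ (Limits.pullback.fst X.hom X.hom ≫ X.hom)) T.hom ≫ T.hom =
      Limits.pullback.fst (l₁ ≫ (Limits.pullback.fst X.hom X.hom ≫ X.hom)) T.hom ≫ X.hom :=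
    Limits.pullback.condition.symm.trans (congrArg (_ ≫ ·) hc₁)
  have hk₂ : Limits.pullback.snd (l₂ ≫ (Limits.pullback.fst X.hom X.hom ≫ X.hom)) T.hom ≫ T.hom =
      Limits.pullback.fst (l₂ ≫ (Limits.pullback.fst X.hom X.hom ≫ X.hom)) T.hom ≫ X.hom :=
    Limits.pullback.condition.symm.trans (congrArg (_ ≫ ·) hc₂)
  rw [pull_cls, PicGrp.cls_eq_one_iff] at hz
  obtain ⟨i₀⟩ := hz
  obtain ⟨W, hW, hzW, hi⟩ := W7Cube.exists_clopen_cube_base X.hom X.hom T.hom eta heta eta heta M hM
      l₁ (Limits.pullback.lift_fst _ _ _) (Limits.pullback.lift_snd _ _ _) (e₁ ≫ s₁.left)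
      (by
        refine Limits.pullback.hom_ext ?_ ?_
        · simp [s₁, e₁, l₁, eta, Limits.pullback.condition_assoc]
          exact (reassoc_of% hk₁) eta
        · simp [s₁, e₁, l₁])
      (by simp [s₁, e₁])
      l₂ (Limits.pullback.lift_fst _ _ _) (Limits.pullback.lift_snd _ _ _) (e₂ ≫ s₂.left)
      (by
        refine Limits.pullback.hom_ext ?_ ?_
        · simp [s₂, e₂, l₂]
        · simp [s₂, e₂, l₂, eta, Limits.pullback.condition_assoc]
          exact (reassoc_of% hk₂) eta)
      (by simp [s₂, e₂])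
      (((Scheme.Modules.pullbackComp e₁ s₁.left).app M).symm ≪≫ (Scheme.Modules.pullback e₁).mapIso j₁ ≪≫
        PicLoc.pullbackStructureIso e₁)
      (((Scheme.Modules.pullbackComp e₂ s₂.left).app M).symm ≪≫ (Scheme.Modules.pullback e₂).mapIso j₂ ≪≫
        PicLoc.pullbackStructureIso e₂)
      z i₀
  refine ⟨W, hW, hzW, ?_⟩
  rw [pull_cls, PicGrp.cls_eq_one_iff]
  exact hi

set_option maxHeartbeats 2000000 in
/-- trivial on every fibre, hence trivial -/
theorem univDefect_eq_one_of_fibres (c : PicLoc.PicSet (X ⊗ T).left)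
    (hz : ∀ z : T.left, pull ((Limits.pullback.snd (X ⊗ X).hom T.hom).fiberι z) (univDefect c) = 1) :
    univDefect c = 1 := by
  haveI : GeometricallyIntegral X.hom := W7Cube.geometricallyIntegral_grp
  obtain ⟨M, hM, e⟩ := PicGrp.exists_eq_cls (univDefect c)
  let f := Limits.pullback.snd (X ⊗ X).hom T.hom
  have hgen : ∀ z, ∃ (W : T.left.Opens) (v : Γ(M, f ⁻¹ᵁ W)), z ∈ W ∧ IsGen v := fun z => by
    obtain ⟨W, -, hzW, hi⟩ := exists_clopen c z (hz z)
    rw [e, pull_cls, PicGrp.cls_eq_one_iff] at hi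
    obtain ⟨v, hv⟩ := W7Cube.exists_gen_of_iso_preimage f W M hi.some
    exact ⟨W, v, hzW, hv⟩
  haveI : IsProper (X ⊗ X).hom := inferInstanceAs (IsProper (Limits.pullback.fst X.hom X.hom ≫ X.hom))
  haveI : Flat (X ⊗ X).hom := inferInstanceAs (Flat (Limits.pullback.fst X.hom X.hom ≫ X.hom))
  haveI : LocallyOfFinitePresentation (Limits.pullback.fst X.hom X.hom) :=
    MorphismProperty.pullback_fst _ _ inferInstance
  haveI : LocallyOfFinitePresentation (X ⊗ X).hom :=
    inferInstanceAs (LocallyOfFinitePresentation (Limits.pullback.fst X.hom X.hom ≫ X.hom))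
  haveI : GeometricallyIntegral (X ⊗ X).hom :=
    W7Cube.geometricallyIntegral_prod (IsPullback.of_hasPullback X.hom X.hom) (X ⊗ X).hom rfl
  haveI : IsProper f := inferInstance
  haveI : Flat f := inferInstance
  haveI : LocallyOfFinitePresentation f := MorphismProperty.pullback_snd _ _ inferInstance
  haveI : GeometricallyIntegral f := inferInstance
  haveI := W7See.geometricallyConnected_of_geometricallyIntegral f
  have hb : ∀ W : T.left.Opens, Function.Bijective (f.app W).hom :=
    W7See.app_bijective_of_local f fun t => W7Hull.exists_nhd_app_bijective_of_lfp f t (W7See.bijective_fiber f t)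
  obtain ⟨-, hc⟩ := W7See.seesaw_formal f hb M hM hgen
  let s : T ⟶ (X ⊗ X) ⊗ T := lift (lift (toUnit T ≫ η[X]) (toUnit T ≫ η[X])) (𝟙 T)
  have hs : defect c (s ≫ fst _ _ ≫ fst _ _) (s ≫ fst _ _ ≫ snd _ _) (s ≫ snd _ _) = 1 := by
    simp only [s, lift_fst_assoc, lift_fst, lift_snd]; rw [← Hom.one_def]; exact (defect_one c _ _).1
  rw [← pull_univDefect, e, pull_cls, PicGrp.cls_eq_one_iff] at hs
  rw [e, PicGrp.cls_eq_one_iff]
  exact W7See.nonempty_iso_unit_of_counit f M hc s.left (by simp [s, f]) hs.some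

/-- a connected family passing through a trivial member -/
theorem univDefect_eq_one_of_connected [ConnectedSpace T.left] (c : PicLoc.PicSet (X ⊗ T).left) (z : T.left)
    (hz : pull ((Limits.pullback.snd (X ⊗ X).hom T.hom).fiberι z) (univDefect c) = 1) :
    univDefect c = 1 := by
  obtain ⟨W, hW, hzW, hi⟩ := exists_clopen c z hz
  obtain rfl : W = ⊤ := TopologicalSpace.Opens.ext ((show IsClopen (W : Set T.left) from ⟨hW, W.2⟩).eq_univ ⟨z, hzW⟩)
  let P := (Limits.pullback.snd (X ⊗ X).hom T.hom) ⁻¹ᵁ (⊤ : T.left.Opens)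
  haveI : IsIso P.ι := (Limits.pullback (X ⊗ X).hom T.hom).topIso.isIso_hom
  have h : pull (CategoryTheory.inv P.ι) (pull P.ι (univDefect c)) = 1 := by
    rw [hi, map_one]
  rw [pull_pull, IsIso.inv_hom_id] at h
  exact (PicGrp.pullHom_id_apply _ (univDefect c)).symm.trans h

end cube

end Groth.Agent.AbPrim
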